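import Cfsg.Agent.H570.Ore.Blk_m3
import Cfsg.Agent.H570.Ore.Ex_mg
import Cfsg.Agent.H65.Ore.Split_m3
import Cfsg.Agent.H511.Ore.WRow_m3
import Cfsg.Agent.H410.TwoCo2
import Cfsg.Agent.H715.Mon.RowB
import Cfsg.Agent.H954.DR.CentB
import Cfsg.Agent.KFacts.Baby.RowB_m3
import Cfsg.Agent.H844.Ore.BReal
import Cfsg.Agent.H480.Ore.FiBThree
import Cfsg.Agent.H903.Ore.Baby
import Cfsg.Agent.H58.Ore.BThree
import Cfsg.Agent.FastGrp
import Cfsg.Agent.Prune
set_option linter.all false

section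
prune_inst 0x7f00000000000000000000000000000000000000000000000000000000000000000000000000000000000000000000000000000000000000000000000000000000000000000000000000000000000000003fffffffffffffffffffffffffffbeffbdffffffff

-- part: H570/Ore/Abs
section
set_option linter.all false
open scoped Cfsg.Agent.FastGrp

-- part: H570/Ore/Num
section
/-!
# ORE (S2443), row B: the numerical part (helper570)

`n` divides `|B|`, `n ≠ 1`, with residues as for a character of `B` modulo `47, 31, 23, 19, 17`, and `n ∣ 4096 · 11707448673375 · m`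
with `1 ≤ m`, `4032 m ≤ n` and `m ≡ 0` or `n` modulo `23`. Then `n ≥ 364344` (`n ≡ ± 1 (31)`), resp. `n ≥ 2337075`
(`n ≡ ± 15 (31)`).
-/

set_option autoImplicit false

namespace Cfsg.Agent.H570.Ore.Num

open Cfsg.Agent.H653.Sieve

/-- some `m = g k`, `1 ≤ k ≤ f`, is `0` or `n` modulo 23 -/
def exK (n g : ℕ) : ℕ → Bool
  | 0 => false
  | k + 1 => (Nat.beq ((g * (k + 1)) % 23) 0 || Nat.beq ((g * (k + 1)) % 23) (n % 23)) || exK n g k

theorem exK_spec {n g : ℕ} : ∀ {f : ℕ}, exK n g f = false → ∀ k, 1 ≤ k → k ≤ f →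
    ¬ ((g * k) % 23 = 0 ∨ (g * k) % 23 = n % 23)
  | 0, _, k, h1, h2 => by omega
  | f + 1, h, k, h1, h2 => by
    rw [exK, Bool.or_eq_false_iff, Bool.or_eq_false_iff] at h
    obtain ⟨⟨h3, h4⟩, h5⟩ := h
    rcases Nat.lt_or_ge k (f + 1) with h6 | h6
    · exact exK_spec h5 k h1 (by omega)
    · obtain rfl : k = f + 1 := by omega
      rintro (h7 | h7)
      · rw [h7] at h3; exact absurd h3 (by decide)
      · rw [h7, Nat.beq_refl] at h4; exact absurd h4 (by decide)

/-- no `m` -/
def dead (n : ℕ) : Bool := !(exK n (n / Nat.gcd n 47953709766144000) (n / 4032 / (n / Nat.gcd n 47953709766144000)))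

theorem dead_spec {n m : ℕ} (hn : 0 < n) (h : dead n = true) (hm1 : 1 ≤ m) (hm : 4032 * m ≤ n)
    (hd : n ∣ 47953709766144000 * m) : ¬ (m % 23 = 0 ∨ m % 23 = n % 23) := by
  unfold dead at h
  rw [Bool.not_eq_true'] at h
  generalize hg : Nat.gcd n 47953709766144000 = g at h
  have hg0 : 0 < g := by rw [← hg]; exact Nat.gcd_pos_of_pos_left _ hn
  have hgn : g ∣ n := by rw [← hg]; exact Nat.gcd_dvd_left _ _
  have hgw : g ∣ 47953709766144000 := by rw [← hg]; exact Nat.gcd_dvd_right _ _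
  have hcop : Nat.Coprime (n / g) (47953709766144000 / g) := by
    rw [← hg]
    exact Nat.coprime_div_gcd_div_gcd (by rw [hg]; exact hg0)
  have h1 : n / g ∣ (47953709766144000 / g) * m := by
    have h2 : g * (n / g) ∣ g * ((47953709766144000 / g) * m) := by
      rw [← mul_assoc, Nat.mul_div_cancel' hgn, Nat.mul_div_cancel' hgw]
      exact hd
    exact Nat.dvd_of_mul_dvd_mul_left hg0 h2
  have h3 : n / g ∣ m := hcop.dvd_of_dvd_mul_left h1
  obtain ⟨k, rfl⟩ := h3
  have hq0 : 0 < n / g := Nat.div_pos (Nat.le_of_dvd hn hgn) hg0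
  refine exK_spec h k ?_ ?_
  · rcases Nat.eq_zero_or_pos k with h | h
    · rw [h, mul_zero] at hm1; omega
    · exact h
  · rw [Nat.le_div_iff_mul_le hq0, Nat.le_div_iff_mul_le (by norm_num)]
    calc k * (n / g) * 4032 = 4032 * (n / g * k) := by ring
      _ ≤ n := hm

/-- residue `0` or `± 1` -/
def r3 (p n : ℕ) : Bool := (Nat.beq (n % p) 0 || Nat.beq (n % p) 1) || Nat.beq (n % p) (p - 1)

/-- residue `± e` -/
def r2 (p e n : ℕ) : Bool := Nat.beq (n % p) e || Nat.beq (n % p) (p - e)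

/-- the test -/
def chk (n : ℕ) : Bool :=
  bif Nat.beq n 1 then true else
  bif r2 31 1 n then
    bif Nat.ble 364344 n then true else
    bif !(r3 47 n || r2 47 23 n) then true else
    bif !(r3 23 n || r2 23 11 n) then true else
    bif !(r3 19 n) then true else
    bif !(r3 17 n || r2 17 2 n) then true else dead n
  else bif r2 31 15 n then
    bif !(r3 47 n) then true else
    bif !(r3 23 n) then true else
    bif !(r3 19 n) then true else
    bif !(r3 17 n || r2 17 2 n) then true else dead n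
  else true

def L : List (ℕ × ℕ) := [(47, 1), (31, 1), (23, 1), (19, 1), (17, 1), (13, 1), (11, 1), (7, 2), (5, 6), (3, 13), (2, 41)]

set_option maxRecDepth 100000 in
theorem check : allDiv (2337075 * 2337075) chk L 1 = true := by decide +kernel

theorem fac : facProd L = 4154781481226426191177580544000000 := by decide +kernel

theorem L_prime : ∀ pa ∈ L, pa.1.Prime := by
  intro pa hpa
  simp only [L, List.mem_cons, List.not_mem_nil, or_false] at hpa
  rcases hpa with rfl | rfl | rfl | rfl | rfl | rfl | rfl | rfl | rfl | rfl | rfl <;> norm_num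

theorem r3_spec {p n : ℕ} (h : n % p = 0 ∨ n % p = 1 ∨ n % p = p - 1) : r3 p n = true := by
  unfold r3
  rw [Bool.or_eq_true, Bool.or_eq_true, Nat.beq_eq, Nat.beq_eq, Nat.beq_eq]
  tauto

theorem r2_spec {p e n : ℕ} : (n % p = e ∨ n % p = p - e) ↔ r2 p e n = true := by
  unfold r2
  rw [Bool.or_eq_true, Nat.beq_eq, Nat.beq_eq]

/-- **The numerical statement.** -/
theorem num {n : ℕ} (hn : n ∣ 4154781481226426191177580544000000) (h1 : n ≠ 1)
    (h47 : r3 47 n = true ∨ r2 47 23 n = true) (h23 : r3 23 n = true ∨ r2 23 11 n = true) (h19 : r3 19 n = true)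
    (h17 : r3 17 n = true ∨ r2 17 2 n = true)
    (hreal : r2 31 15 n = true → r3 47 n = true ∧ r3 23 n = true)
    {m : ℕ} (hm1 : 1 ≤ m) (hm : 4032 * m ≤ n) (hd : n ∣ 47953709766144000 * m)
    (hm23 : m % 23 = 0 ∨ m % 23 = n % 23) :
    (r2 31 1 n = true → 364344 ≤ n) ∧ (r2 31 15 n = true → 2337075 ≤ n) := by
  have hn0 : 0 < n := Nat.pos_of_dvd_of_pos hn (by norm_num)
  have key : n < 2337075 → chk n = true := by
    intro h
    have h2 := allDiv_spec L_prime check n (by rw [fac]; exact hn) (by rw [one_mul]; exact Nat.mul_self_lt_mul_self h)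
    rwa [one_mul] at h2
  have hdead : dead n ≠ true := fun h => dead_spec hn0 h hm1 hm hd hm23
  have hb1 : Nat.beq n 1 = false := by
    rw [Bool.eq_false_iff]
    intro h
    exact h1 (Nat.eq_of_beq_eq_true h)
  have h47' : (!(r3 47 n || r2 47 23 n)) = false := by
    rcases h47 with h | h <;> rw [h] <;> simp
  have h23' : (!(r3 23 n || r2 23 11 n)) = false := by
    rcases h23 with h | h <;> rw [h] <;> simp
  have h17' : (!(r3 17 n || r2 17 2 n)) = false := by
    rcases h17 with h | h <;> rw [h] <;> simp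
  have h19' : (!(r3 19 n)) = false := by rw [h19]; rfl
  constructor
  · intro h31
    by_contra hlt
    have h2 := key (by omega)
    have h3 : Nat.ble 364344 n = false := by
      rw [Bool.eq_false_iff]
      intro h
      exact hlt (Nat.le_of_ble_eq_true h)
    rw [chk, hb1, h31, h3, h47', h23', h19', h17'] at h2
    simp only [cond_false, cond_true] at h2
    exact hdead h2
  · intro h31
    by_contra hlt
    have h2 := key (by omega)
    obtain ⟨h4, h5⟩ := hreal h31
    have h4' : (!(r3 47 n)) = false := by rw [h4]; rfl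
    have h5' : (!(r3 23 n)) = false := by rw [h5]; rfl
    have h6 : r2 31 1 n = false := by
      rw [Bool.eq_false_iff]
      intro h
      have h7 := r2_spec.2 h
      have h8 := r2_spec.2 h31
      omega
    rw [chk, hb1, h6, h31, h4', h5', h19', h17'] at h2
    simp only [cond_false, cond_true] at h2
    exact hdead h2

end Cfsg.Agent.H570.Ore.Num
end

-- part: H570/Ore/Abs
section
/-!
# ORE (S2443), row B: the degree bounds and T1 from the local data (helper570)

`Dt G Z` : the local data of the Baby Monster; `deg` : the bounds `364344` (`χ(1) ≡ ± 1 (31)`), `2337075` (`χ(1) ≡ ± 15 (31)`);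
`t1` : all elements with `|C(g)| ≤ 7700000000` are commutators.
-/

set_option autoImplicit false

open Cfsg Subgroup
open scoped ComplexConjugate

namespace Cfsg.Agent.H570.Ore.Abs

open Cfsg.Agent.Characters.Core Cfsg.Agent.H570.Ore.Num
open Cfsg.Agent.SmallSimple.ThetaSetup Cfsg.Agent.SmallSimple.PrimeLocal
open Cfsg.Agent.H653.Sieve Cfsg.Agent.H651.Two

universe u

/-- the order -/
abbrev NB : ℕ := 4154781481226426191177580544000000

/-- The local data of the Baby Monster. -/
structure Dt (G : Type u) [Group G] [Finite G] (Z : G) : Prop where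
  card : Nat.card G = NB
  nonab : ¬ IsMulCommutative G
  Z_ne : Z ≠ 1
  Z_sq : Z * Z = 1
  idx : (centralizer ({Z} : Set G)).index = 11707448673375
  ext : ∀ χ : IrrCharacter G, ∃ k : ℤ, (χ : G → ℂ) Z = (charDegree (χ : G → ℂ) : ℂ) - 4096 * k
  pure : ∀ (χ : IrrCharacter G) (k : ℤ), (χ : G → ℂ) Z = (charDegree (χ : G → ℂ) : ℂ) - 4096 * k →
    4032 * k ≤ charDegree (χ : G → ℂ)
  x47 : ∃ x : G, orderOf x = 47 ∧ Nat.card (centralizer ({x} : Set G)) = 47
  x31 : ∃ x : G, orderOf x = 31 ∧ Nat.card (centralizer ({x} : Set G)) = 31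
  x23 : ∃ x : G, orderOf x = 23 ∧ x * Z = Z * x ∧ Nat.card (centralizer ({x} : Set G)) = 46
  x19 : ∃ x : G, orderOf x = 19 ∧ Nat.card (centralizer ({x} : Set G)) = 38
  x17 : ∃ x : G, orderOf x = 17 ∧ Nat.card (centralizer ({x} : Set G)) = 68

theorem isComp_of_local {G : Type u} [Group G] [Finite G] {p : ℕ} [hp : Fact p.Prime] {P : Sylow p G} {K : Subgroup G}
    {e : ℕ} (h : IsLocal p P e K) : IsComp p (P : Subgroup G) K := by
  intro y
  rw [h.mem_iff]
  refine and_congr_right fun hy => ⟨fun h1 h2 => h.not_dvd (h2.trans (orderOf_dvd_of_pow_eq_one h1)),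
    fun h1 => ?_⟩
  have h2 : orderOf y ∣ p * Nat.card K := by
    rw [← h.card_centralizer]
    exact Subgroup.orderOf_dvd_natCard _ hy
  have h3 : (orderOf y).Coprime p := ((hp.out.coprime_iff_not_dvd).2 h1).symm
  exact orderOf_dvd_iff_pow_eq_one.1 (h3.dvd_of_dvd_mul_left h2)

/-- the data of an element of prime order -/
theorem exists_blk {G : Type u} [Group G] [Finite G] [IsSimpleGroup G] (hG : ¬ IsMulCommutative G) {p : ℕ}
    [hp : Fact p.Prime] {N : ℕ} (hN : Nat.card G = N) {x : G} (hx : orderOf x = p) {k : ℕ}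
    (hc : Nat.card (centralizer ({x} : Set G)) = p * k)
    (e t : ℕ) (wl : List (ℕ × ℤ)) (c : ℤ) (b : Bool) (hnum : numOK N p k e t wl c b = true) :
    ∃ (P : Sylow p G) (K : Subgroup G), IsComp p (P : Subgroup G) K ∧ Nat.card P = p ∧ (P : Subgroup G) = zpowers x ∧
      p ≠ 2 ∧ e * t = p - 1 ∧
      (centralizer ((P : Subgroup G) : Set G)).relIndex (normalizer ((P : Subgroup G) : Set G)) = e ∧ Nat.card K = k := by
  obtain ⟨P, hP, hPx, hp2, ht, he, hCP⟩ := H511.Ore.exists_sylow hG hN hx hc e t wl c b hnum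
  simp only [numOK, Bool.and_eq_true, bne_iff_ne, beq_iff_eq, ne_eq] at hnum
  obtain ⟨⟨⟨⟨⟨⟨-, hN0⟩, hN1⟩, -⟩, -⟩, -⟩, -⟩ := hnum
  have h1 : p ∣ Nat.card G := by rw [hN]; exact Nat.dvd_of_mod_eq_zero hN0
  have h2 : ¬ p ^ 2 ∣ Nat.card G := by
    rw [hN]; exact fun h => hN1 (Nat.mod_eq_zero_of_dvd h)
  obtain ⟨e', K, hL⟩ := exists_local hG h1 h2 P
  refine ⟨P, K, isComp_of_local hL, hP, hPx, hp2, ht, he, ?_⟩
  have h3 : p * Nat.card K = p * k := by rw [← hL.card_centralizer]; exact hCP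
  exact Nat.eq_of_mul_eq_mul_left hp.out.pos h3

theorem mod_zero {p n : ℕ} (h : (p : ℤ) ∣ (n : ℤ)) : n % p = 0 := Nat.mod_eq_zero_of_dvd (by exact_mod_cast h)

theorem mod_sub {p n a : ℕ} (h : (p : ℤ) ∣ (n : ℤ) - a) (ha : a < p) : n % p = a := H65.Ore.mod_of_dvd_sub h ha

theorem mod_add {p n a : ℕ} (h : (p : ℤ) ∣ (n : ℤ) + a) (ha : 0 < a) (ha' : a < p) : n % p = p - a :=
  H65.Ore.mod_of_dvd_add h ha ha'

variable {G : Type u} [Group G] [Finite G] [IsSimpleGroup G] {Z : G}

omit [IsSimpleGroup G] in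
/-- the residues at a prime `p` with `C(P) = P × K`, `|K| ≤ 2` -/
theorem res {p : ℕ} [hp : Fact p.Prime] {P : Sylow p G} {K : Subgroup G} (hK : IsComp p (P : Subgroup G) K)
    (hP : Nat.card P = p) (hK2 : Nat.card K ≤ 2) (hp2 : p ≠ 2) {e t : ℕ}
    (he : (centralizer ((P : Subgroup G) : Set G)).relIndex (normalizer ((P : Subgroup G) : Set G)) = e)
    (ht : e * t = p - 1) (ho : Odd e) (hep : e < p) (χ : IrrCharacter G) :
    (r3 p (charDegree (χ : G → ℂ)) = true ∨ r2 p e (charDegree (χ : G → ℂ)) = true) ∧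
      ((∀ x : G, orderOf x = p → conj ((χ : G → ℂ) x) = (χ : G → ℂ) x) → r3 p (charDegree (χ : G → ℂ)) = true) := by
  have hp1 := hp.out.one_lt
  have he0 : 0 < e := ho.pos
  rcases Blk.residue hK hP hK2 he ht χ with h | h | h | ⟨h, h'⟩
  · have h1 : r3 p (charDegree (χ : G → ℂ)) = true := r3_spec (Or.inl (mod_zero h))
    exact ⟨Or.inl h1, fun _ => h1⟩
  · have h1 : r3 p (charDegree (χ : G → ℂ)) = true := r3_spec (Or.inr (Or.inl (mod_sub (a := 1) (by exact_mod_cast h) hp1)))
    exact ⟨Or.inl h1, fun _ => h1⟩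
  · have h1 : r3 p (charDegree (χ : G → ℂ)) = true :=
      r3_spec (Or.inr (Or.inr (mod_add (a := 1) (by exact_mod_cast h) one_pos hp1)))
    exact ⟨Or.inl h1, fun _ => h1⟩
  · refine ⟨Or.inr (r2_spec.1 ?_), fun hr => ?_⟩
    · rcases h with h | h
      · exact Or.inl (mod_sub h hep)
      · exact Or.inr (mod_add h he0 hep)
    · obtain ⟨x, hx, hne⟩ := h' ho hp2
      exact absurd (hr x (Blocks.CyclicOrtho.orderOf_eq P hP x.2 fun h => hx (Subtype.ext h))) hne

/-- the characters `χ(1) ≡ ± 15 (31)` are real off the elements of order divisible by 31 -/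
theorem real31 (D : Dt G Z) (χ : IrrCharacter G) (h : r2 31 15 (charDegree (χ : G → ℂ)) = true) {x : G}
    (hx : ¬ 31 ∣ orderOf x) : conj ((χ : G → ℂ) x) = (χ : G → ℂ) x := by
  classical
  have hp : Nat.Prime 31 := by norm_num
  have hF : Fact (Nat.Prime 31) := ⟨hp⟩
  obtain ⟨x31, hx31, hc31⟩ := D.x31
  obtain ⟨NE, X, h31⟩ := H65.Ore.exists_dat D.nonab hp D.card hx31 hc31 15 2 143 (by decide +kernel)
  have hmem : ∀ ψ : IrrCharacter G, charDegree (ψ : G → ℂ) = charDegree (χ : G → ℂ) → ψ ∈ X := by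
    intro ψ hψ
    have h1 := r2_spec.2 h
    rw [← hψ] at h1
    by_contra hX
    by_cases hNE : ψ ∈ NE
    · have h2 := h31.ne_deg ψ hNE
      omega
    · have h2 : ¬ ψ ∈ X := hX
      -- defect zero
      have hpg : IsPGroup 31 (zpowers x31) := IsPGroup.of_card (n := 1) (by rw [Nat.card_zpowers, hx31, pow_one])
      have h4 : Nat.card (zpowers x31) = 31 := by rw [Nat.card_zpowers, hx31]
      have hidx : ¬ 31 ∣ (zpowers x31).index := by
        intro h5
        have h6 : 31 ^ 2 ∣ Nat.card G := by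
          rw [← (zpowers x31).card_mul_index, h4, pow_two]
          exact Nat.mul_dvd_mul_left 31 h5
        rw [D.card] at h6
        revert h6
        norm_num
      let P : Sylow 31 G := hpg.toSylow hidx
      have h3 : (31 : ℤ) ∣ charDegree (ψ : G → ℂ) := by
        refine Blk.deg_zero (P := P) (by exact h4) fun y hy => h31.off ψ hNE h2 y ?_
        exact Blocks.CyclicOrtho.orderOf_eq P (by exact h4) y.2 fun h => hy (Subtype.ext h)
      have h6 : 31 ∣ charDegree (ψ : G → ℂ) := by exact_mod_cast h3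
      omega
  let χ' : IrrCharacter G := ⟨fun g => conj ((χ : G → ℂ) g), isIrr_conj χ.2⟩
  have hdeg : charDegree (χ' : G → ℂ) = charDegree (χ : G → ℂ) := by
    have h1 := Blk.deg_cast χ'
    have h2 : (χ' : G → ℂ) 1 = (charDegree (χ : G → ℂ) : ℂ) := by
      show conj ((χ : G → ℂ) 1) = _
      rw [Blk.deg_cast]; simp
    rw [h2] at h1
    exact_mod_cast h1.symm
  exact h31.eq_of χ' (hmem χ' hdeg) χ (hmem χ rfl) x hx

theorem deg (D : Dt G Z) (χ : IrrCharacter G) (hχ : (χ : G → ℂ) ≠ 1) :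
    (r2 31 1 (charDegree (χ : G → ℂ)) = true → 364344 ≤ charDegree (χ : G → ℂ)) ∧
      (r2 31 15 (charDegree (χ : G → ℂ)) = true → 2337075 ≤ charDegree (χ : G → ℂ)) := by
  have hdvd : charDegree (χ : G → ℂ) ∣ NB := by rw [← D.card]; exact H511.Ore.charDegree_dvd χ
  have hn1 : charDegree (χ : G → ℂ) ≠ 1 := by
    have := H511.Ore.two_le_charDegree D.nonab χ hχ
    omega
  obtain ⟨k, hk⟩ := D.ext χ
  have hk1 : 1 ≤ k := Ext.one_le hχ D.Z_ne (c := 4096) (by norm_num) (by rw [hk]; push_cast; ring)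
  obtain ⟨m, rfl⟩ := Int.eq_ofNat_of_zero_le (by omega : 0 ≤ k)
  have hm1 : 1 ≤ m := by exact_mod_cast hk1
  have hm : 4032 * m ≤ charDegree (χ : G → ℂ) := by exact_mod_cast D.pure χ m hk
  have hd : charDegree (χ : G → ℂ) ∣ 47953709766144000 * m := by
    have h1 := Ext.dvd (χ := χ) (c := 4096) (k := m) D.idx (by rw [hk]; push_cast; ring)
    have h2 : 11707448673375 * 4096 * m = 47953709766144000 * m := by norm_num
    rwa [h2] at h1
  -- 47
  have hF47 : Fact (Nat.Prime 47) := ⟨by norm_num⟩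
  have hF23 : Fact (Nat.Prime 23) := ⟨by norm_num⟩
  obtain ⟨x47, hx47, hc47⟩ := D.x47
  obtain ⟨P, K, hK, hP, -, hp2, ht, he, hKc⟩ := exists_blk D.nonab D.card hx47 (k := 1) (by rw [hc47])
    23 2 [(0, 0), (1, 2), (46, -2), (23, -1), (24, 1)] 2 true (by decide +kernel)
  obtain ⟨h47, h47'⟩ := res hK hP (by omega) hp2 he ht (by decide) (by norm_num) χ
  -- 23
  obtain ⟨x23, hx23, hxZ, hc23⟩ := D.x23
  obtain ⟨P', K', hK', hP', hPx', hp2', ht', he', hKc'⟩ := exists_blk D.nonab D.card hx23 (k := 2) (by rw [hc23])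
    11 2 [(0, 0), (1, 2), (22, -2), (11, -1), (12, 1)] 0 false (by decide +kernel)
  obtain ⟨h23, h23'⟩ := res hK' hP' (by omega) hp2' he' ht' (by decide) (by norm_num) χ
  have hZK : Z ∈ K' := by
    rw [hK' Z]
    refine ⟨?_, ?_⟩
    · rw [hPx', mem_centralizer_iff]
      rintro _ ⟨i, rfl⟩
      exact ((show Commute x23 Z from hxZ).zpow_left i).eq
    · intro h
      have h1 : orderOf Z ∣ 2 := orderOf_dvd_of_pow_eq_one (by rw [pow_two]; exact D.Z_sq)
      have h2 := h.trans h1
      revert h2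
      norm_num
  have hm23 : m % 23 = 0 ∨ m % 23 = charDegree (χ : G → ℂ) % 23 := by
    have h1 := Blk.mod_invol hK' hP' hKc' hZK D.Z_ne he' ht' χ
      (c := (charDegree (χ : G → ℂ) : ℤ) - 4096 * m) (by rw [hk]; push_cast; ring)
    have e23 : ((23 : ℕ) : ℤ) = 23 := rfl
    rw [e23] at h1
    rcases h1 with ⟨h1, h2⟩ | h1 | h1
    · left; omega
    · left; omega
    · right; omega
  -- 19 and 17
  have h19 : r3 19 (charDegree (χ : G → ℂ)) = true := by
    obtain ⟨x, hx, hc⟩ := D.x19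
    have h1 := H511.Ore.res_of_has D.nonab D.card (c := ⟨19, 2, 18, 1, [(0, 0), (1, 1), (18, -1)], 0, false⟩)
      ⟨by norm_num, x, hx, hc.trans (by norm_num)⟩ (by decide +kernel) χ
    simp only [List.any_cons, List.any_nil, Bool.or_false, Bool.or_eq_true, Nat.beq_eq] at h1
    exact r3_spec h1
  have h17 : r3 17 (charDegree (χ : G → ℂ)) = true ∨ r2 17 2 (charDegree (χ : G → ℂ)) = true := by
    obtain ⟨x, hx, hc⟩ := D.x17
    have h1 := H511.Ore.res_of_has D.nonab D.card
      (c := ⟨17, 4, 16, 1, [(0, 0), (1, 1), (16, -1), (2, 2), (15, -2)], 0, false⟩)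
      ⟨by norm_num, x, hx, hc.trans (by norm_num)⟩ (by decide +kernel) χ
    simp only [List.any_cons, List.any_nil, Bool.or_false, Bool.or_eq_true, Nat.beq_eq] at h1
    rcases h1 with h1 | h1 | h1 | h1 | h1
    · exact Or.inl (r3_spec (Or.inl h1))
    · exact Or.inl (r3_spec (Or.inr (Or.inl h1)))
    · exact Or.inl (r3_spec (Or.inr (Or.inr h1)))
    · exact Or.inr (r2_spec.1 (Or.inl h1))
    · exact Or.inr (r2_spec.1 (Or.inr h1))
  refine num hdvd hn1 h47 h23 h19 h17 (fun h => ?_) hm1 hm hd hm23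
  exact ⟨h47' fun x hx => real31 D χ h (by rw [hx]; norm_num), h23' fun x hx => real31 D χ h (by rw [hx]; norm_num)⟩

/-- **T1.** -/
theorem t1 (D : Dt G Z) : H511.Ore.T1 G 7700000000 := by
  intro g hg
  obtain ⟨x31, hx31, hc31⟩ := D.x31
  exact H65.Ore.comm_all D.nonab (by norm_num : Nat.Prime 31) D.card hx31 hc31 15 2 143 (by decide +kernel)
    (DN := 364344) (DX := 2337075)
    (fun χ hχ h => (deg D χ hχ).1 (r2_spec.1 h)) (fun χ hχ h => (deg D χ hχ).2 (r2_spec.1 h))
    (by norm_num) (by norm_num) hg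

end Cfsg.Agent.H570.Ore.Abs
end

private theorem dce_ccb427cef97b : _root_.True := by
  try have : _root_.True := by simp only [_root_.Cfsg.Agent.H570.Ore.Num.exK.eq_1]
  try have : _root_.True := by simp only [_root_.Cfsg.Agent.H570.Ore.Num.L.eq_1]
  try have : _root_.True := by simp only [_root_.Cfsg.Agent.H570.Ore.Num.exK.eq_2]
  try have : _root_.True := by simp only [_root_.Cfsg.Agent.H570.Ore.Num.exK.eq_def]
  try have : _root_.True := by simp only [_root_.Cfsg.Agent.H570.Ore.Num.chk.eq_1]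
  exact _root_.True.intro
end

-- part: H570/Ore/RowB
section
set_option linter.all false
open scoped Cfsg.Agent.FastGrp

-- part: H570/Ore/Cent
section
/-!
# ORE (S2443), row B: centralizers of the elements of orders 31, 23, 19, 17 in the Baby Monster (helper570)

`SThree` is the theorem of Feit and Thompson on self-centralizing subgroups of order 3 (S3331).
-/

set_option autoImplicit false
set_option maxRecDepth 100000

open Subgroup

namespace Cfsg.Agent.H570.Ore.Cent

open Cfsg Cfsg.Agent.H715.Mon.Cent Cfsg.Agent.H715.Mon.RowB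
open Cfsg.Agent.H954.DR.CentB (NB arith)
open Cfsg.Agent.H979.OddB (nadj3 nadj7)
open Cfsg.Agent.H241.Mon (Gam card_G card_XX)
open Cfsg.Agent.H241.NH (Three)
open Cfsg.Agent.H715.Mon.Grp (SThree)

universe u

theorem three_of (h : SThree.{0}) : Three.{0} := by
  intro K _ _ T hT hC
  rcases h K T hT hC with ⟨N, hN, h1, -, h3⟩ | ⟨N, hN, -, h2, ⟨e⟩⟩ | ⟨⟨e⟩⟩
  · refine Or.inl ⟨N, hN, h1, ?_⟩
    rcases h3 with h3 | ⟨⟨e⟩⟩
    · exact Or.inl h3
    · right
      rw [Nat.card_congr e.toEquiv, Nat.card_eq_fintype_card, Fintype.card_perm, Fintype.card_fin]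
      rfl
  · refine Or.inr (Or.inl ⟨N, hN, h2, ?_⟩)
    rw [Nat.card_congr e.toEquiv]
    have h4 : 2 * Nat.card (alternatingGroup (Fin 5)) = 2 * 60 := by
      rw [Nat.card_eq_fintype_card, two_mul_card_alternatingGroup, Fintype.card_perm, Fintype.card_fin]
      rfl
    omega
  · right; right
    rw [Nat.card_congr e.toEquiv]
    have : Fact (Nat.Prime 7) := ⟨by norm_num⟩
    exact Cfsg.Agent.SmallSimple.PSLFacts.card_psl_two_seven (ZMod.card 7)

section gen

variable {G : Type*} [Group G] [Finite G]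

omit [Finite G] in
theorem cent_equiv {H : Type*} [Group H] (e : G ≃* H) (x : G) :
    Nat.card (centralizer ({e x} : Set H)) = Nat.card (centralizer ({x} : Set G)) := by
  refine (Nat.card_congr (Equiv.subtypeEquiv e.toEquiv fun g => ?_)).symm
  rw [mem_centralizer_singleton_iff, mem_centralizer_singleton_iff]
  show g * x = x * g ↔ e g * e x = e x * e g
  rw [← map_mul, ← map_mul, EmbeddingLike.apply_eq_iff_eq]

omit [Finite G] in
theorem ord_dvd {x : G} {p : ℕ} (hx : orderOf x = p) : p ∣ Nat.card (centralizer ({x} : Set G)) := by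
  rw [← hx, ← Subgroup.orderOf_mk x (mem_centralizer_singleton_iff.2 rfl : x ∈ centralizer ({x} : Set G))]
  exact orderOf_dvd_natCard _

theorem not_dvd {x : G} {q : ℕ} (hq : q.Prime) (h : ∀ y : G, orderOf y = q → y * x ≠ x * y) :
    ¬ q ∣ Nat.card (centralizer ({x} : Set G)) := by
  intro h3
  have : Fact q.Prime := ⟨hq⟩
  obtain ⟨y, hy⟩ := exists_prime_orderOf_dvd_card' q h3
  exact h (y : G) (by rw [Subgroup.orderOf_coe, hy]) (mem_centralizer_singleton_iff.1 y.2)

/-- the centralizers of two elements of order `p`, `p` exact -/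
theorem card_eq {p : ℕ} (hp : p.Prime) (h2 : ¬ p ^ 2 ∣ Nat.card G) {x y : G} (hx : orderOf x = p) (hy : orderOf y = p) :
    Nat.card (centralizer ({x} : Set G)) = Nat.card (centralizer ({y} : Set G)) := by
  obtain ⟨g, hg⟩ := Cfsg.Agent.H149.Sp.Eng.exists_conj hp h2 hx hy
  have h1 : Nat.card (centralizer ({g * y * g⁻¹} : Set G)) = Nat.card (centralizer ({y} : Set G)) :=
    Blocks.SylowIn.card_centralizer_of_isConj (isConj_iff.2 ⟨g, rfl⟩)
  rw [← h1]
  have ho : orderOf (g * y * g⁻¹) = p := by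
    rw [← hy]; exact MulEquiv.orderOf_eq (MulAut.conj g) y
  have h3 : zpowers x = zpowers (g * y * g⁻¹) :=
    Subgroup.eq_of_le_of_card_ge (by rw [zpowers_le]; exact hg) (by rw [Nat.card_zpowers, Nat.card_zpowers, hx, ho])
  have h4 : ∀ x : G, centralizer ({x} : Set G) = centralizer (zpowers x : Set G) := fun x => by
    rw [zpowers_eq_closure, centralizer_closure]
  rw [h4 x, h3, ← h4]

theorem sylow {p : ℕ} (hp : p.Prime) (h2 : ¬ p ^ 2 ∣ Nat.card G) {x : G} (hx : orderOf x = p) :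
    ∃ e ∈ (p - 1).divisors, Nat.card G % (Nat.card (centralizer ({x} : Set G)) * e) = 0 ∧
      Nat.card G / (Nat.card (centralizer ({x} : Set G)) * e) % p = 1 := by
  obtain ⟨e, he, h3, h4⟩ := arith hp h2 hx
  have h5 := hp.two_le
  refine ⟨e, Nat.mem_divisors.2 ⟨he, by omega⟩, ?_, ?_⟩
  · rw [h3]
    exact Nat.mod_eq_zero_of_dvd (card_subgroup_dvd_card _)
  · rw [h4]
    exact Nat.mod_eq_of_lt hp.one_lt

end gen

/-! ### The Monster, 19 -/

theorem m19 (h3 : SThree.{0}) {y : Gam} (hy : orderOf y = 19) : Nat.card (centralizer ({y} : Set Gam)) = 1140 := by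
  have h19 : Nat.Prime 19 := by norm_num
  have hz : ¬ 19 ∣ 2 ^ 25 * 4157776806543360000 := by norm_num
  have hsq : ¬ 19 ^ 2 ∣ Nat.card Gam := by rw [card_G]; norm_num
  have : Finite Spor.Th := Nat.finite_of_card_ne_zero (by rw [S1700.result.2]; norm_num)
  have : Finite Spor.HN := Nat.finite_of_card_ne_zero (by rw [S1701.result.2]; norm_num)
  obtain ⟨v, hv, hvy⟩ := exists_three' h19 (by norm_num) hsq
    (self_of_card h19 (by rw [S1700.result.2]; norm_num) fun y hy => H491.PB.Th.card_nineteen hy) hy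
  obtain ⟨w, hw, hwy⟩ := exists_five' h19 (by norm_num) hsq
    (self_of_card h19 (by rw [S1701.result.2]; norm_num) fun y hy => H315.PwHN.card_nineteen hy) hy
  have hle := card19 h3 hy
  have d3 : 3 ∣ Nat.card (centralizer ({y} : Set Gam)) := by
    rw [← hv, ← Subgroup.orderOf_mk v (mem_centralizer_singleton_iff.2 hvy.1)]
    exact orderOf_dvd_natCard _
  have d5 : 5 ∣ Nat.card (centralizer ({y} : Set Gam)) := by
    rw [← hw, ← Subgroup.orderOf_mk w (mem_centralizer_singleton_iff.2 hwy.1)]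
    exact orderOf_dvd_natCard _
  have d19 := ord_dvd hy
  obtain ⟨e, he, h4, h5⟩ := sylow h19 hsq hy
  rw [card_G] at h4 h5
  generalize Nat.card (centralizer ({y} : Set Gam)) = c at *
  have h6 : 285 ∣ c := by
    have h7 : 15 ∣ c := Nat.Coprime.mul_dvd_of_dvd_of_dvd (by norm_num : Nat.Coprime 3 5) d3 d5
    exact Nat.Coprime.mul_dvd_of_dvd_of_dvd (by norm_num : Nat.Coprime 15 19) h7 d19
  obtain ⟨k, rfl⟩ := h6
  have hk : k ∈ Finset.range 5 := by rw [Finset.mem_range]; omega
  have key : ∀ k ∈ Finset.range 5, ∀ e ∈ (19 - 1).divisors,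
      808017424794512875886459904961710757005754368000000000 % (285 * k * e) = 0 →
      808017424794512875886459904961710757005754368000000000 / (285 * k * e) % 19 = 1 → 285 * k = 1140 := by
    decide +kernel
  exact key k hk e he h4 h5

variable {L : Type u} [Group L] [Finite L]

/-! ### 31 -/

theorem c31 (h3 : SThree.{0}) (h : Spor.IsoB L) {y : L} (hy : orderOf y = 31) :
    Nat.card (centralizer ({y} : Set L)) = 31 := by
  obtain ⟨x, hx, hd⟩ := exists_cent h (by norm_num) (by norm_num) hy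
  rw [card31 h3 hx] at hd
  have d31 := ord_dvd hy
  have n3 : ¬ 3 ∣ Nat.card (centralizer ({y} : Set L)) :=
    not_dvd Nat.prime_three fun w hw => nadj3 h (by simp) hw hy
  generalize Nat.card (centralizer ({y} : Set L)) = c at *
  have h1 : c ∣ 93 := Nat.dvd_of_mul_dvd_mul_right (by norm_num : 0 < 2) (by exact hd)
  obtain ⟨k, rfl⟩ := d31
  have h4 : k ∣ 3 := Nat.dvd_of_mul_dvd_mul_left (by norm_num : 0 < 31) (by exact h1)
  rcases (Nat.dvd_prime Nat.prime_three).1 h4 with rfl | rfl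
  · rfl
  · exact absurd (dvd_mul_left 3 31) n3

/-! ### 19 -/

theorem c19 (h3 : SThree.{0}) (h : Spor.IsoB L) {y : L} (hy : orderOf y = 19) :
    Nat.card (centralizer ({y} : Set L)) = 38 := by
  have hN : Nat.card L = NB := NotCT.Orders.b h
  have hsq : ¬ 19 ^ 2 ∣ Nat.card L := by rw [hN]; norm_num
  obtain ⟨x, hx, hd⟩ := exists_cent h (by norm_num) (by norm_num) hy
  rw [m19 h3 hx] at hd
  have d19 := ord_dvd hy
  have n3 : ¬ 3 ∣ Nat.card (centralizer ({y} : Set L)) :=
    not_dvd Nat.prime_three fun w hw => nadj3 h (by simp) hw hy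
  obtain ⟨e, he, h4, h5⟩ := sylow (by norm_num) hsq hy
  rw [hN] at h4 h5
  generalize Nat.card (centralizer ({y} : Set L)) = c at *
  have h1 : c ∣ 570 := Nat.dvd_of_mul_dvd_mul_right (by norm_num : 0 < 2) (by exact hd)
  obtain ⟨k, rfl⟩ := d19
  have h6 : k ∣ 30 := Nat.dvd_of_mul_dvd_mul_left (by norm_num : 0 < 19) (by exact h1)
  have hk : k ∈ Nat.divisors 30 := Nat.mem_divisors.2 ⟨h6, by norm_num⟩
  have key : ∀ k ∈ Nat.divisors 30, (19 * k) % 3 ≠ 0 → ∀ e ∈ (19 - 1).divisors,
      4154781481226426191177580544000000 % (19 * k * e) = 0 →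
      4154781481226426191177580544000000 / (19 * k * e) % 19 = 1 → 19 * k = 38 := by
    decide +kernel
  exact key k hk (fun h => n3 (Nat.dvd_of_mod_eq_zero h)) e he h4 h5

/-! ### 17 -/

theorem c17 (h3 : SThree.{0}) (h : Spor.IsoB L) {y : L} (hy : orderOf y = 17) :
    Nat.card (centralizer ({y} : Set L)) = 68 := by
  have hN : Nat.card L = NB := NotCT.Orders.b h
  have hsq : ¬ 17 ^ 2 ∣ Nat.card L := by rw [hN]; norm_num
  obtain ⟨x, hx, hd⟩ := exists_cent h (by norm_num) (by norm_num) hy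
  have hd' := hd.trans (Cfsg.Agent.H241.Mon.card_seventeen (three_of h3) hx)
  have d17 := ord_dvd hy
  have n3 : ¬ 3 ∣ Nat.card (centralizer ({y} : Set L)) :=
    not_dvd Nat.prime_three fun w hw => nadj3 h (by simp) hw hy
  obtain ⟨e, he, h4, h5⟩ := sylow (by norm_num) hsq hy
  rw [hN] at h4 h5
  generalize Nat.card (centralizer ({y} : Set L)) = c at *
  have h1 : c ∣ 84 * 17 := Nat.dvd_of_mul_dvd_mul_right (by norm_num : 0 < 2) (by exact hd')
  obtain ⟨k, rfl⟩ := d17
  have h6 : k ∣ 84 := Nat.dvd_of_mul_dvd_mul_left (by norm_num : 0 < 17) (by rw [mul_comm 17 84]; exact h1)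
  have hk : k ∈ Nat.divisors 84 := Nat.mem_divisors.2 ⟨h6, by norm_num⟩
  have key : ∀ k ∈ Nat.divisors 84, (17 * k) % 3 ≠ 0 → ∀ e ∈ (17 - 1).divisors,
      4154781481226426191177580544000000 % (17 * k * e) = 0 →
      4154781481226426191177580544000000 / (17 * k * e) % 17 = 1 → 17 * k = 68 := by
    decide +kernel
  exact key k hk (fun h => n3 (Nat.dvd_of_mod_eq_zero h)) e he h4 h5

/-! ### 23 -/

open Cfsg.Agent.BabyM Cfsg.Agent.BabyM.Model Cfsg.Agent.BabyU.ClosModel Cfsg.Agent.BabyU.ClosLane in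
/-- an element of order 23 of the model commuting with `z` -/
theorem model23 : ∃ x : Inst.M.G, orderOf x = 23 ∧ x * Model.Z = Model.Z * x ∧
    ¬ 4 ∣ Nat.card (centralizer ({x} : Set Inst.M.G)) := by
  have hfin := A.finite_G
  have h23 : Fact (Nat.Prime 23) := ⟨by norm_num⟩
  have hcC : Nat.card (centralizer ({zz A} : Set Inst.M.G)) = 2 ^ 23 * 42305421312000 := by
    rw [Nat.card_congr (KFacts.Baby.Inst.eC A).toEquiv, A.grp.card_C]
  obtain ⟨x, hx⟩ := exists_prime_orderOf_dvd_card' (G := centralizer ({zz A} : Set Inst.M.G)) 23 (by rw [hcC]; norm_num)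
  obtain ⟨π, -, hπ⟩ := KFacts.Baby.Inst.quot A
  have hx' : orderOf (x : Inst.M.G) = 23 := by rw [Subgroup.orderOf_coe, hx]
  have hxz := mem_centralizer_singleton_iff.1 x.2
  have hQ : Nat.card (PP Inst.M) = 2 ^ 23 := by
    rw [← A.grp.Q_card]
    exact Nat.card_congr (Subgroup.subgroupOfEquivOfLe (A.grp.Q_le.trans A.C_le_G)).toEquiv
  obtain ⟨e⟩ := Cfsg.Agent.Schreier.CoTwoStab.exists_equiv _ GroupInst.dt_l₀
  refine ⟨x, hx', hxz, Ex.not_four (KFacts.Baby.Inst.large A) hQ π hπ (fun y hy => ?_) hx' hxz⟩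
  have h1 := H410.TwoCo2.card_cent_23 (z := e y) (by rw [MulEquiv.orderOf_eq, hy])
  rw [← h1]
  exact (cent_equiv e y).symm

/-- **`|C(x)| = 46` for `x` of order 23.** -/
theorem c23 [IsSimpleGroup L] (h3 : SThree.{0}) (h : Spor.IsoB L) {y : L} (hy : orderOf y = 23) :
    Nat.card (centralizer ({y} : Set L)) = 46 := by
  have hN : Nat.card L = NB := NotCT.Orders.b h
  have hsq : ¬ 23 ^ 2 ∣ Nat.card L := by rw [hN]; norm_num
  have hF : Fact (Nat.Prime 23) := ⟨by norm_num⟩
  obtain ⟨x, hx, hxz, h4⟩ := model23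
  obtain ⟨f⟩ := KFacts.Baby.RowB.exists_iso h
  have hfx : orderOf (f x) = 23 := by rw [MulEquiv.orderOf_eq, hx]
  have e0 : Nat.card (centralizer ({y} : Set L)) = Nat.card (centralizer ({x} : Set BabyM.Inst.M.G)) := by
    rw [card_eq (by norm_num) hsq hy hfx, cent_equiv]
  have n4 : ¬ 4 ∣ Nat.card (centralizer ({y} : Set L)) := by rw [e0]; exact h4
  have d2 : 2 ∣ Nat.card (centralizer ({y} : Set L)) := by
    rw [e0]
    have h5 : orderOf Model.Z = 2 := orderOf_eq_prime (by rw [pow_two]; exact Model.Z_sq) Model.Z_ne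
    rw [← h5, ← Subgroup.orderOf_mk Model.Z (mem_centralizer_singleton_iff.2 hxz.symm)]
    have hfin := BabyM.Instance.all.finite_G
    exact orderOf_dvd_natCard _
  have d23 := ord_dvd hy
  have n3 : ¬ 3 ∣ Nat.card (centralizer ({y} : Set L)) :=
    not_dvd Nat.prime_three fun w hw => nadj3 h (by simp) hw hy
  have n5 : ¬ 5 ∣ Nat.card (centralizer ({y} : Set L)) :=
    not_dvd Nat.prime_five fun w hw => Cfsg.Agent.H630.Baby.strong_five h (by simp) hw hy
  have n7 : ¬ 7 ∣ Nat.card (centralizer ({y} : Set L)) :=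
    not_dvd (by norm_num) fun w hw => nadj7 h (by simp) hw hy
  have key : ∀ {q c : ℕ}, q.Prime → (∀ w : L, orderOf w = q → Nat.card (centralizer ({w} : Set L)) = c) → ¬ 23 ∣ c →
      ¬ q ∣ Nat.card (centralizer ({y} : Set L)) := by
    intro q c hq h1 h2
    refine not_dvd hq fun w hw hc => h2 ?_
    rw [← h1 w hw, ← hy, ← Subgroup.orderOf_mk y (mem_centralizer_singleton_iff.2 hc.symm)]
    exact orderOf_dvd_natCard _
  have n17 := key (by norm_num : Nat.Prime 17) (fun w hw => c17 h3 h hw) (by norm_num)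
  have n19 := key (by norm_num : Nat.Prime 19) (fun w hw => c19 h3 h hw) (by norm_num)
  have n31 := key (by norm_num : Nat.Prime 31) (fun w hw => c31 h3 h hw) (by norm_num)
  have n47 := key (by norm_num : Nat.Prime 47) (fun w hw => Cfsg.Agent.H954.DR.CentB.cent47 h hw) (by norm_num)
  -- the Sylow subgroup
  have hG : ¬ IsMulCommutative L := by
    intro hcomm
    have h5 : (Nat.card L).Prime := by
      let _ : CommGroup L := { (inferInstance : Group L) with mul_comm := fun a b => hcomm.is_comm.comm a b }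
      exact IsSimpleGroup.prime_card
    rw [hN] at h5
    norm_num at h5
  have hpg : IsPGroup 23 (zpowers y) := IsPGroup.of_card (n := 1) (by rw [Nat.card_zpowers, hy, pow_one])
  have hidx : ¬ 23 ∣ (zpowers y).index := by
    intro h
    apply hsq
    rw [← (zpowers y).card_mul_index, Nat.card_zpowers, hy, pow_two]
    exact Nat.mul_dvd_mul_left 23 h
  let P : Sylow 23 L := hpg.toSylow hidx
  obtain ⟨e, K, hL⟩ := SmallSimple.PrimeLocal.exists_local hG (by rw [hN]; norm_num) hsq P
  have hCx : Nat.card (centralizer ({y} : Set L)) = 23 * Nat.card K := by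
    rw [← hL.card_centralizer]
    have : centralizer ({y} : Set L) = centralizer (zpowers y : Set L) := by
      rw [zpowers_eq_closure, centralizer_closure]
    rw [this]; rfl
  have hd : Nat.card (centralizer ({y} : Set L)) ∣ NB := by rw [← hN]; exact card_subgroup_dvd_card _
  have hcard := hL.card_eq
  have hsy := card_sylow_modEq_one 23 L
  rw [hN] at hcard
  rw [hCx] at n4 d2 n3 n5 n7 n17 n19 n31 n47 hd ⊢
  obtain ⟨m, hm⟩ := (Nat.Coprime.dvd_of_dvd_mul_left (by norm_num : Nat.Coprime 2 23) d2)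
  rw [hm] at n4 n3 n5 n7 n17 n19 n31 n47 hd hcard ⊢
  have hm143 : m ∣ 11 * 13 := by
    have e1 : NB = 2 ^ 41 * (3 ^ 13 * (5 ^ 6 * (7 ^ 2 * (17 ^ 1 * (19 ^ 1 * (31 ^ 1 * (47 ^ 1 * (23 * (11 * 13))))))))) := by
      norm_num
    have hco : ∀ {p j : ℕ}, p.Prime → ¬ p ∣ 23 * (2 * m) → Nat.Coprime (23 * m) (p ^ j) := by
      intro p j hp h1
      refine (Nat.Coprime.pow_left j ((Nat.Prime.coprime_iff_not_dvd hp).2 fun h2 => h1 (h2.trans ⟨2, by ring⟩))).symm
    have h2m : Nat.Coprime (23 * m) (2 ^ 41) := by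
      refine (Nat.Coprime.pow_left 41 ((Nat.Prime.coprime_iff_not_dvd Nat.prime_two).2 fun h2 => ?_)).symm
      rcases (Nat.Prime.dvd_mul Nat.prime_two).1 h2 with h2 | ⟨r, hr⟩
      · revert h2; norm_num
      · exact n4 ⟨23 * r, by rw [hr]; ring⟩
    have hd' : 23 * m ∣ NB := (Dvd.intro_left 2 (by ring : 2 * (23 * m) = 23 * (2 * m))).trans hd
    rw [e1] at hd'
    have g1 := h2m.dvd_of_dvd_mul_left hd'
    have g2 := (hco (j := 13) Nat.prime_three n3).dvd_of_dvd_mul_left g1
    have g3 := (hco (j := 6) Nat.prime_five n5).dvd_of_dvd_mul_left g2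
    have g4 := (hco (j := 2) (by norm_num) n7).dvd_of_dvd_mul_left g3
    have g5 := (hco (j := 1) (by norm_num) n17).dvd_of_dvd_mul_left g4
    have g6 := (hco (j := 1) (by norm_num) n19).dvd_of_dvd_mul_left g5
    have g7 := (hco (j := 1) (by norm_num) n31).dvd_of_dvd_mul_left g6
    have g8 := (hco (j := 1) (by norm_num) n47).dvd_of_dvd_mul_left g7
    exact Nat.dvd_of_mul_dvd_mul_left (by norm_num) g8
  have hmm : m ∈ Nat.divisors 143 := Nat.mem_divisors.2 ⟨by simpa using hm143, by norm_num⟩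
  have hee : e ∈ Nat.divisors 22 := Nat.mem_divisors.2 ⟨by simpa using hL.dvd_pred, by norm_num⟩
  have fin : ∀ m ∈ Nat.divisors 143, ∀ e ∈ Nat.divisors 22, e ≠ 1 →
      4154781481226426191177580544000000 / (23 * e * (2 * m)) % 23 = 1 → 23 * (2 * m) = 46 := by
    decide +kernel
  refine fin m hmm e hee hL.one_lt.ne' ?_
  have hpos : 0 < 23 * e * (2 * m) := by
    rcases Nat.eq_zero_or_pos (23 * e * (2 * m)) with h0 | h0
    · rw [h0, mul_zero] at hcard
      exact absurd hcard (by norm_num)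
    · exact h0
  rw [show (4154781481226426191177580544000000 : ℕ) = NB from rfl, hcard, Nat.mul_div_cancel _ hpos]
  exact hsy

end Cfsg.Agent.H570.Ore.Cent
end

-- part: H570/Ore/RowB
section
/-!
# ORE (S2443), row B: T1 for the Baby Monster (helper570)

`t1_b` : every element `g` of the Baby Monster with `|C(g)| ≤ 7700000000` is a commutator. `SThree.{0}` is the theorem
of Feit and Thompson, `fun _ _ _ X hX hC => S3331.result X hX hC`.
-/

set_option autoImplicit false

namespace Cfsg.Agent.H570.Ore.RowB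

open Cfsg Subgroup
open Cfsg.Agent.BabyM Cfsg.Agent.BabyU.ClosModel Cfsg.Agent.BabyU.ClosLane
open Cfsg.Agent.H715.Mon.Grp (SThree)

universe u

instance fin : Finite Inst.M.G := A.finite_G

theorem isoB : Spor.IsoB Inst.M.G := ⟨BM.KHAll.iso.symm⟩

theorem simple : IsSimpleGroup Inst.M.G :=
  (BM.KHAll.iso.symm.isSimpleGroup_congr).2 KFacts.Baby.RowB.simple_B

theorem card : Nat.card Inst.M.G = Abs.NB := NotCT.Orders.b isoB

theorem nonab : ¬ IsMulCommutative Inst.M.G := by
  intro hcomm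
  have := simple
  have h5 : (Nat.card Inst.M.G).Prime := by
    let _ : CommGroup Inst.M.G := { (inferInstance : Group Inst.M.G) with mul_comm := fun a b => hcomm.is_comm.comm a b }
    exact IsSimpleGroup.prime_card
  rw [card] at h5
  norm_num at h5

theorem idx : (centralizer ({Model.Z} : Set Inst.M.G)).index = 11707448673375 := by
  have h1 : Nat.card (centralizer ({Model.Z} : Set Inst.M.G)) = 2 ^ 23 * 42305421312000 := by
    rw [Nat.card_congr (KFacts.Baby.Inst.eC A).toEquiv, A.grp.card_C]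
  have h2 := (centralizer ({Model.Z} : Set Inst.M.G)).card_mul_index
  rw [h1, card] at h2
  apply Nat.eq_of_mul_eq_mul_left (show 0 < 2 ^ 23 * 42305421312000 by norm_num)
  rw [h2]; norm_num

theorem exists_order {p : ℕ} (hp : p.Prime) (h : p ∣ Abs.NB) : ∃ x : Inst.M.G, orderOf x = p := by
  have : Fact p.Prime := ⟨hp⟩
  exact exists_prime_orderOf_dvd_card' p (by rw [card]; exact h)

/-- **The local data.** -/
theorem dt (h3 : SThree.{0}) : Abs.Dt Inst.M.G Model.Z where
  card := card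
  nonab := nonab
  Z_ne := Model.Z_ne
  Z_sq := Model.Z_sq
  idx := idx
  ext := Model.ext
  pure := fun χ _ hk => Model.pure χ hk
  x47 := by
    have := simple
    obtain ⟨x, hx⟩ := exists_order (by norm_num : Nat.Prime 47) (by norm_num)
    exact ⟨x, hx, H954.DR.CentB.cent47 isoB hx⟩
  x31 := by
    obtain ⟨x, hx⟩ := exists_order (by norm_num : Nat.Prime 31) (by norm_num)
    exact ⟨x, hx, Cent.c31 h3 isoB hx⟩
  x23 := by
    have := simple
    obtain ⟨x, hx, hxz, -⟩ := Cent.model23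
    exact ⟨x, hx, hxz, Cent.c23 h3 isoB hx⟩
  x19 := by
    obtain ⟨x, hx⟩ := exists_order (by norm_num : Nat.Prime 19) (by norm_num)
    exact ⟨x, hx, Cent.c19 h3 isoB hx⟩
  x17 := by
    obtain ⟨x, hx⟩ := exists_order (by norm_num : Nat.Prime 17) (by norm_num)
    exact ⟨x, hx, Cent.c17 h3 isoB hx⟩

/-- **T1 for the Baby Monster.** -/
theorem t1_b (h3 : SThree.{0}) {S : Type u} [Group S] (h : Spor.IsoB S) : H511.Ore.T1 S 7700000000 := by
  have := simple
  obtain ⟨e⟩ := KFacts.Baby.RowB.exists_iso h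
  exact H511.Ore.T1.congr e.symm (Abs.t1 (dt h3))

end Cfsg.Agent.H570.Ore.RowB
end
end

-- part: H844/Ore/BFrame
section
set_option linter.all false
open scoped Cfsg.Agent.FastGrp

/-!
# Row B of Ore: assembly (helper844)

`frame` : every element of the Baby Monster is a commutator, given `Fi22`, `Fi23`, `OreF23` (`Co2`), and
* `hT` : `|C(g)| ≤ 7700000000` implies that `g` is a commutator,
* `h5` : `|C(y)| ≤ 7700000000` for `y` of prime order at least five.
-/

set_option autoImplicit false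

universe u

namespace Cfsg.Agent.H844.Ore.BFrame

open Cfsg Cfsg.Agent Cfsg.Agent.H777.Ore
open Subgroup (centralizer mem_centralizer_singleton_iff center)

variable {L : Type u} [Group L]

theorem card_cent_le_pow [Finite L] (g : L) (k : ℕ) :
    Nat.card ↥(centralizer ({g} : Set L)) ≤ Nat.card ↥(centralizer ({g ^ k} : Set L)) := by
  refine Subgroup.card_le_of_le fun y hy => ?_
  rw [mem_centralizer_singleton_iff] at hy ⊢
  exact ((show Commute y g from hy).pow_right k).eq

theorem cent_inv (g : L) : centralizer ({g⁻¹} : Set L) = centralizer ({g} : Set L) := by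
  ext y
  rw [mem_centralizer_singleton_iff, mem_centralizer_singleton_iff]
  constructor
  · intro h
    have := (show Commute y g⁻¹ from h).inv_right
    rw [inv_inv] at this
    exact this
  · intro h
    exact (show Commute y g from h).inv_right

/-- `s` of type 3A in the Baby Monster is no cube -/
theorem fi_no_cube {s : L} (hs : FiB s) (y : L) (hy : y ^ 3 = s) : False := by
  obtain ⟨t₀, hA, h2, e, x, hx, rfl, hf⟩ := hs
  exact H480.Ore.no_cube hA h2 e hx hf y hy

theorem fi_order {s : L} (hs : FiB s) : orderOf s = 3 := by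
  obtain ⟨t₀, hA, h2, e, x, hx, rfl, hf⟩ := hs
  exact H480.Ore.order_s hA h2 e hx hf

theorem fi_mul (hFi : AllC Spor.Fi22) {s : L} (hs : FiB s) {u : L} {n : ℕ} (hn : u ^ 2 ^ n = 1) (hus : u * s = s * u) :
    IsC (u * s) ∨ Nat.card ↥(centralizer ({u * s} : Set L)) ≤ 7700000000 := by
  obtain ⟨t₀, hA, h2, e, x, hx, rfl, hf⟩ := hs
  exact H480.Ore.three_A hA h2 e hx hf hFi hn hus

/-- `6 ∣ orderOf g`, the element `g ^ (orderOf g / 3)` of type 3A, `g` a `{2, 3}`-element -/
theorem fi_elt (hFi : AllC Spor.Fi22) [Finite L] {g : L} (a b : ℕ) (ho : orderOf g = 2 ^ a * 3 ^ b)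
    (hs : FiB (g ^ (orderOf g / 3))) : IsC g ∨ Nat.card ↥(centralizer ({g} : Set L)) ≤ 7700000000 := by
  obtain ⟨s, hs'⟩ : ∃ s, s = g ^ (orderOf g / 3) := ⟨_, rfl⟩
  rw [← hs'] at hs
  have hos := fi_order hs
  -- `b = 1`
  have hb : b = 1 := by
    rcases b with _ | _ | b
    · exfalso
      rw [pow_zero, mul_one] at ho
      have h1 : s ^ 2 ^ a = 1 := by rw [hs', ← pow_mul, mul_comm, pow_mul, ← ho, pow_orderOf_eq_one, one_pow]
      have h2 := orderOf_dvd_of_pow_eq_one h1
      rw [hos] at h2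
      have := Nat.prime_three.dvd_of_dvd_pow h2
      revert this
      decide
    · rfl
    · exfalso
      refine fi_no_cube hs (g ^ (2 ^ a * 3 ^ b)) ?_
      rw [hs', ← pow_mul, ho]
      congr 1
      have : 2 ^ a * 3 ^ (b + 1 + 1) = 3 * (2 ^ a * 3 ^ b * 3) := by ring
      rw [this, Nat.mul_div_cancel_left _ (by norm_num : 0 < 3)]
  subst hb
  rw [pow_one] at ho
  have hs2 : s = g ^ 2 ^ a := by
    rw [hs', ho, Nat.mul_div_cancel _ (by norm_num : 0 < 3)]
  -- the decomposition
  have hcop : Nat.Coprime (2 ^ a) 3 := Nat.Coprime.pow_left _ (by norm_num)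
  have hbez : ((2 ^ a : ℕ) : ℤ) * Nat.gcdA (2 ^ a) 3 + ((3 : ℕ) : ℤ) * Nat.gcdB (2 ^ a) 3 = 1 := by
    have := Nat.gcd_eq_gcd_ab (2 ^ a) 3
    rw [hcop] at this
    exact_mod_cast this.symm
  set m := Nat.gcdA (2 ^ a) 3 with hm
  set n := Nat.gcdB (2 ^ a) 3 with hn
  have hg : g = g ^ (((3 : ℕ) : ℤ) * n) * s ^ m := by
    have e1 : s ^ m = g ^ (((2 ^ a : ℕ) : ℤ) * m) := by rw [hs2, ← zpow_natCast, ← zpow_mul]
    rw [e1, ← zpow_add, add_comm, hbez, zpow_one]
  obtain ⟨u, hu⟩ : ∃ u, u = g ^ (((3 : ℕ) : ℤ) * n) := ⟨_, rfl⟩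
  rw [← hu] at hg
  have hu1 : u ^ 2 ^ a = 1 := by
    rw [hu, ← zpow_natCast, ← zpow_mul]
    have e1 : ((3 : ℕ) : ℤ) * n * ((2 ^ a : ℕ) : ℤ) = ((orderOf g : ℕ) : ℤ) * n := by
      rw [ho]
      push_cast
      ring
    rw [e1, zpow_mul, zpow_natCast, pow_orderOf_eq_one, one_zpow]
  have hus : u * s = s * u := by
    rw [hu, hs2]
    exact ((Commute.refl g).zpow_left _).pow_right _
  -- `s ^ m`
  have hcase : s ^ m = s ∨ s ^ m = s⁻¹ ∨ s ^ m = 1 := by
    have h1 : s ^ m = s ^ (m % 3) := by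
      rw [← zpow_mod_orderOf, hos]
      rfl
    have h2 : m % 3 = 0 ∨ m % 3 = 1 ∨ m % 3 = 2 := by omega
    have h3 : s ^ (3 : ℤ) = 1 := by
      have := pow_orderOf_eq_one s
      rw [hos] at this
      exact_mod_cast this
    rcases h2 with h2 | h2 | h2
    · right; right
      rw [h1, h2, zpow_zero]
    · left
      rw [h1, h2, zpow_one]
    · right; left
      rw [h1, h2]
      apply eq_inv_of_mul_eq_one_left
      rw [← h3]
      group
  rcases hcase with h1 | h1 | h1
  · rw [h1] at hg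
    rw [hg]
    exact fi_mul hFi hs hu1 hus
  · rw [h1] at hg
    have hg' : g⁻¹ = u⁻¹ * s := by
      rw [hg, mul_inv_rev, inv_inv]
      exact (show Commute s u from hus.symm).inv_right
    rcases fi_mul hFi hs (u := u⁻¹) (n := a) (by rw [inv_pow, hu1, inv_one])
      (show Commute u s from hus).inv_left with h2 | h2
    · left
      rw [← hg'] at h2
      have := h2.inv
      rwa [inv_inv] at this
    · right
      rw [← hg', cent_inv] at h2
      exact h2
  · exfalso
    rw [h1, mul_one] at hg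
    have h2 : orderOf g ∣ 2 ^ a := by
      rw [hg]
      exact orderOf_dvd_of_pow_eq_one hu1
    rw [ho] at h2
    have h3 := Nat.le_of_dvd (by positivity) h2
    have h4 : 0 < 2 ^ a := by positivity
    omega

/-- a natural number without prime divisor at least five -/
theorem exists_two_three {n : ℕ} (h0 : n ≠ 0) (h : ∀ p, p.Prime → p ∣ n → p < 5) : ∃ a b : ℕ, n = 2 ^ a * 3 ^ b := by
  refine ⟨n.factorization 2, n.factorization 3, ?_⟩
  conv_lhs => rw [← Nat.prod_factorization_pow_eq_self h0]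
  have hsub : n.factorization.support ⊆ {2, 3} := by
    intro p hp
    rw [Nat.support_factorization, Nat.mem_primeFactors] at hp
    have h1 := h p hp.1 hp.2.1
    have h2 := hp.1.two_le
    have h3 : p ≠ 4 := by
      rintro rfl
      exact absurd hp.1 (by norm_num)
    have : p = 2 ∨ p = 3 := by omega
    rcases this with rfl | rfl <;> simp
  rw [Finsupp.prod_of_support_subset _ hsub _ (fun _ _ => pow_zero _)]
  rw [Finset.prod_pair (by norm_num)]

/-- **Row B** -/
theorem frame (h : Spor.IsoB L) (hT : ∀ g : L, Nat.card ↥(centralizer ({g} : Set L)) ≤ 7700000000 → IsC g)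
    (h5 : ∀ y : L, (orderOf y).Prime → 5 ≤ orderOf y → Nat.card ↥(centralizer ({y} : Set L)) ≤ 7700000000)
    (hO : H903.Ore.Baby.OreF23Two) (hF23 : AllC Spor.Fi23) (hFi : AllC Spor.Fi22) : AllC L := by
  have hfin : Finite L := Nat.finite_of_card_ne_zero (by rw [NotCT.Orders.b h]; norm_num)
  intro g
  have h0 : orderOf g ≠ 0 := (orderOf_pos g).ne'
  by_cases hp : ∃ p, p.Prime ∧ p ∣ orderOf g ∧ 5 ≤ p
  · obtain ⟨p, hp, hpg, hp5⟩ := hp
    have ho : orderOf (g ^ (orderOf g / p)) = p := orderOf_pow_orderOf_div h0 hpg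
    exact hT g ((card_cent_le_pow g _).trans (h5 _ (by rw [ho]; exact hp) (by rw [ho]; exact hp5)))
  push Not at hp
  obtain ⟨a, b, hab⟩ := exists_two_three h0 hp
  rcases Nat.eq_zero_or_pos a with rfl | ha
  · rw [pow_zero, one_mul] at hab
    exact H58.Ore.BThree.three_elt hF23 h (k := b) (by rw [← hab, pow_orderOf_eq_one])
  rcases Nat.eq_zero_or_pos b with rfl | hb
  · rw [pow_zero, mul_one] at hab
    exact H903.Ore.Baby.two_B h hO ⟨a, hab⟩
  have h6 : 6 ∣ orderOf g := by
    rw [hab, show (6 : ℕ) = 2 * 3 from rfl]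
    exact mul_dvd_mul (dvd_pow_self 2 ha.ne') (dvd_pow_self 3 hb.ne')
  rcases BThree.cent_six h h6 with h1 | h1
  · exact hT g (h1.trans (by norm_num))
  · rcases fi_elt hFi a b hab h1 with h2 | h2
    · exact h2
    · exact hT g h2

end Cfsg.Agent.H844.Ore.BFrame
end
end
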